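import Cfsg.Agent.Lib.Mult.Glue
import Cfsg.Agent.Lib.Grp.A7.Main

set_option autoImplicit false
set_option maxRecDepth 100000
set_option Elab.async false

namespace Cfsg.Agent.Mult.A7

open Cfsg.Agent.CG Cfsg.Agent.CG.A7

noncomputable def p2T : ℕ := 0xc023008c020000000e0108020000000000040200000000000000
noncomputable def p2q1 : ℕ := 0x3132
noncomputable def p2q2 : ℕ := 0xd3e3
noncomputable def p2NF : ℕ := 0x200000000000000000000000000001000000000000000000008000000000000602000000000018080000000000000000000000000000000008000000000000000000040000000000000000000000000000000000000000000000001000000000000000000000000000000000000000000000000000000000000000000000000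
noncomputable def p2gv : ℕ := 0x100004000000c0200000080600008000400000040002
noncomputable def p2av : ℕ := 0x40001000000001008000000000040000000000000
noncomputable def p2mu : ℕ := 0xc30410410000000cb000000000000003000000000000000
noncomputable def p2om : ℕ := 0x280
noncomputable def p2tm : ℕ := 0xa8a6132aa50aaa4aaaaa
noncomputable def p2par : ℕ := 0x250515e9
noncomputable def p2z : Desc := ⟨0,0,0,0,[],[]⟩
noncomputable def p2ds : Tr Desc := (.node (.node (.node (.node (.node (.leaf p2z) (.leaf ⟨0,4,0,0,[],[]⟩)) (.leaf p2z)) (.node (.leaf p2z) (.leaf p2z))) (.node (.node (.node (.leaf p2z) (.leaf ⟨0,5,0,0,[],[]⟩)) (.leaf ⟨0,3,0,0,[],[]⟩)) (.node (.leaf p2z) (.leaf ⟨1,0x2,2,1,[],[]⟩)))) (.node (.node (.node (.node (.leaf p2z) (.leaf p2z)) (.leaf ⟨0,0,0,0,[],[]⟩)) (.node (.leaf ⟨0,2,0,0,[],[]⟩) (.leaf ⟨1,0x2,1,1,[],[]⟩))) (.node (.node (.node (.leaf p2z) (.leaf p2z)) (.leaf p2z)) (.node (.leaf p2z) (.leaf ⟨0,1,0,0,[],[]⟩)))))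
noncomputable def p2rd : Tr Desc := (.node (.node (.leaf p2z) (.leaf ⟨2,1,0,0,[0,0],[]⟩)) (.node (.leaf ⟨2,0,0,0,[0,0],[]⟩) (.leaf ⟨1,0x3,1,1,[],[]⟩)))
noncomputable def D2 : Dat where
  p := 2
  q := 4
  n1 := 4
  b := 2
  fl := 2
  ew := 14
  T := p2T
  w := 8
  fuel := 7
  nf := 2
  cm := 2
  q1 := fun x => look 0xf p2q1 (Nat.mul 4 x)
  q2 := fun x => look 0xf p2q2 (Nat.mul 4 x)
  NV := 20
  d := 6
  w2 := 9
  NF := fun x => look 0x3fffffffffffff p2NF (Nat.mul 54 x)
  tm := fun x => look 0xf p2tm (Nat.mul 4 x)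
  TM := 10
  par := fun x => look 0x1f p2par (Nat.mul 5 x)
  ds := fun x => p2ds.get x
  r := 4
  s0 := 1
  gv := fun x => look 0x3fffffffffffff p2gv (Nat.mul 54 x)
  rd := fun x => p2rd.get x
  av := fun x => look 0x3fffffffffffff p2av (Nat.mul 54 x)
  mw := 3
  mu := fun x => look 0xfff p2mu (Nat.mul 12 x)
  ms := [2]
  om := fun x => look 0xfff p2om (Nat.mul 12 x)
noncomputable def p2w1 : List (List ℕ) := [[1,4,16,20],
  [13,0,4,14,17],
  [13,0,15],
  [1,4,4,15,21],
  [7,5,15]]
noncomputable def p2w2 : List (List ℕ) := [[1],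
  [2],
  [3]]
noncomputable def p2L0c : ℕ := 0x600830
noncomputable def p2L0p : ℕ := 0x40000
noncomputable def p2L0l : ℕ := 0x410c0
noncomputable def p2L0q : ℕ := 0x3001002
noncomputable def p2L1c : ℕ := 0x300
noncomputable def p2L1p : ℕ := 0x0
noncomputable def p2L1l : ℕ := 0x40
noncomputable def p2L1q : ℕ := 0x100000
noncomputable def p2L : List Lvl := [mkLvl 48 [3,1] 4 6 p2L0c p2L0p p2L0l 5 p2L0q,
  mkLvl 0 [2] 2 5 p2L1c p2L1p p2L1l 5 p2L1q]

theorem p2c0 : okcb 7 8 (bases p2L) = true := by decide +kernel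
theorem p2c1 : D2.chkNum 1 3 2520 p2w2 p2L = true := by decide +kernel
theorem p2c2 : headAll (appW (appW app p2w1) p2w2) p2L [] = true := by decide +kernel
theorem p2c3 : allL (fun l => l.chk (appW (appW app p2w1) p2w2) 1 (l.N - 1)) p2L = true := by decide +kernel
theorem p2c4 : D2.chkPc (appW app p2w1) bs 0 16 = true := by decide +kernel
theorem p2c5 : D2.chkFus (appW app p2w1) bs 0 4 = true := by decide +kernel
theorem p2c6 : D2.chkHead = true := by decide +kernel
theorem p2c7 : D2.chkVars 0 20 = true := by decide +kernel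
theorem p2c8 : D2.chkRhos 0 4 = true := by decide +kernel
theorem p2c9 : D2.chkEnts 0 16 = true := by decide +kernel

theorem pb2 : PB PG 2 [2] :=
  Dat.pbA (D := D2) base card (by norm_num : Nat.Prime 2) (okc_of_okcb p2c0) p2c1 p2c2 p2c3
    p2c4
    p2c5
    p2c6 p2c7
    p2c8
    p2c9

end Cfsg.Agent.Mult.A7
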